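import Groth.Agent.NonAbH1.K299.HensVal
import Groth.Agent.Etalg.RamDVR
import Groth.Agent.Etalg.RamWeak
import Mathlib.RingTheory.DedekindDomain.IntegralClosure

/-!
# Valuation subrings of algebraic extensions of a henselian discretely valued field

Tools for the refutation of the frozen statement S7162.
-/

set_option autoImplicit false
set_option linter.unusedSectionVars false
universe u

namespace Groth.Agent.Refuted.K845

open IsLocalRing EtRam Groth.Agent.Etalg

/-- `w : P` generates the value group of `P` (with respect to the valuation subring `V` of the extension `Ω`). -/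
def Unif {Ω : Type u} [Field Ω] (V : ValuationSubring Ω) (P : Type u) [Field P] [Algebra P Ω] (w : P) : Prop :=
  w ≠ 0 ∧ V.valuation (algebraMap P Ω w) < 1 ∧
    ∀ x : P, x ≠ 0 → ∃ n : ℤ, V.valuation (algebraMap P Ω x) = V.valuation (algebraMap P Ω w) ^ n

/-- the residue field of `P` is the residue field of `V` -/
def Full {Ω : Type u} [Field Ω] (V : ValuationSubring Ω) (P : Type u) [Field P] [Algebra P Ω] : Prop :=
  ∀ x ∈ V, ∃ a : P, V.valuation (x - algebraMap P Ω a) < 1

section hensel

variable {A K Ω : Type u} [CommRing A] [IsDomain A] [IsDiscreteValuationRing A] [HenselianLocalRing A]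
  [Field K] [Algebra A K] [IsFractionRing A K] [Field Ω] [Algebra K Ω] [Algebra A Ω] [IsScalarTower A K Ω]
  [Algebra.IsAlgebraic K Ω] (V : ValuationSubring Ω) (hV : Dominates A (algebraMap A Ω) V)

variable (K) in
include K hV in
theorem mem_iff (x : Ω) : x ∈ V ↔ IsIntegral A x :=
  K299.HensVal.mem_iff K V hV.1 hV.2 x

variable (K) in
include K in
/-- (U) uniqueness of the dominating valuation subring in an algebraic extension -/
theorem eq_of_dominates {V V' : ValuationSubring Ω} (h : Dominates A (algebraMap A Ω) V)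
    (h' : Dominates A (algebraMap A Ω) V') : V = V' := by
  ext x
  rw [mem_iff K V h, mem_iff K V' h']

include hV in
theorem map_mem (g : Ω ≃ₐ[K] Ω) (x : Ω) (hx : x ∈ V) : g x ∈ V := by
  rw [mem_iff K V hV] at hx ⊢
  exact hx.map (g.toAlgHom.restrictScalars A)

theorem val_map_le (hmem : ∀ (g : Ω ≃ₐ[K] Ω) (x : Ω), x ∈ V → g x ∈ V) (g : Ω ≃ₐ[K] Ω) {x y : Ω}
    (h : V.valuation x ≤ V.valuation y) : V.valuation (g x) ≤ V.valuation (g y) := by
  rw [ValuationSubring.valuation_le_iff] at h ⊢
  obtain ⟨a, ha⟩ := h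
  exact ⟨⟨g a, hmem g _ a.2⟩, by rw [← ha, map_mul]⟩

theorem val_map_lt (hmem : ∀ (g : Ω ≃ₐ[K] Ω) (x : Ω), x ∈ V → g x ∈ V) (g : Ω ≃ₐ[K] Ω) {x y : Ω}
    (h : V.valuation x < V.valuation y) : V.valuation (g x) < V.valuation (g y) := by
  by_contra hcon
  push Not at hcon
  have h1 := val_map_le V hmem g.symm hcon
  rw [AlgEquiv.symm_apply_apply, AlgEquiv.symm_apply_apply] at h1
  exact absurd h (not_lt.2 h1)

theorem not_val_lt_map (hmem : ∀ (g : Ω ≃ₐ[K] Ω) (x : Ω), x ∈ V → g x ∈ V) (g : Ω ≃ₐ[K] Ω) (x : Ω) :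
    ¬ V.valuation x < V.valuation (g x) := by
  intro h
  have hmono : StrictMono fun n : ℕ => V.valuation ((g ^ n) x) := by
    apply strictMono_nat_of_lt_succ
    intro n
    have h1 := val_map_lt V hmem (g ^ n) h
    rw [pow_succ]
    exact h1
  have hx : IsIntegral K x := Algebra.IsIntegral.isIntegral x
  have hroot : ∀ n : ℕ, (g ^ n) x ∈ (minpoly K x).rootSet Ω := by
    intro n
    rw [Polynomial.mem_rootSet]
    refine ⟨minpoly.ne_zero hx, ?_⟩
    rw [Polynomial.aeval_algHom_apply (g ^ n : Ω ≃ₐ[K] Ω) x, minpoly.aeval, map_zero]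
  have hfin : Finite ((minpoly K x).rootSet Ω) := (Polynomial.rootSet_finite _ _)
  obtain ⟨i, j, hij, h2⟩ := Finite.exists_ne_map_eq_of_infinite
    (fun n : ℕ => (⟨(g ^ n) x, hroot n⟩ : (minpoly K x).rootSet Ω))
  exact hij (hmono.injective (congrArg V.valuation (congrArg Subtype.val h2)))

include hV in
/-- invariance -/
theorem valuation_map (g : Ω ≃ₐ[K] Ω) (x : Ω) : V.valuation (g x) = V.valuation x := by
  apply le_antisymm
  · exact not_lt.1 (not_val_lt_map V (map_mem V hV) g x)
  · have h1 := not_lt.1 (not_val_lt_map V (map_mem V hV) g.symm (g x))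
    rwa [AlgEquiv.symm_apply_apply] at h1

variable (K) in
include K hV in
/-- rank one -/
theorem exists_pow_le {ϖ : A} (hϖ : Irreducible ϖ) (x : Ω) (hx : x ≠ 0) :
    ∃ n : ℕ, V.valuation (algebraMap A Ω ϖ) ^ n ≤ V.valuation x := by
  have halg : IsAlgebraic A x⁻¹ :=
    (IsFractionRing.isAlgebraic_iff A K Ω).2 (Algebra.IsAlgebraic.isAlgebraic x⁻¹)
  obtain ⟨a, ha0, ha⟩ := halg.exists_integral_multiple
  obtain ⟨n, u, hu⟩ := IsDiscreteValuationRing.associated_pow_irreducible ha0 hϖ
  refine ⟨n, ?_⟩
  have h1 : V.valuation (a • x⁻¹) ≤ 1 := (V.valuation_le_one_iff _).2 ((mem_iff K V hV _).2 ha)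
  rw [Algebra.smul_def, map_mul, map_inv₀] at h1
  have hx0 : V.valuation x ≠ 0 := (Valuation.ne_zero_iff _).2 hx
  have h2 : V.valuation (algebraMap A Ω a) ≤ V.valuation x := by
    rwa [← div_eq_mul_inv, div_le_one₀ (zero_lt_iff.2 hx0)] at h1
  have h3 : V.valuation (algebraMap A Ω u) = 1 := RamDVR.valuation_eq_one_of_isUnit hV u.isUnit
  rw [← map_pow, ← map_pow, ← hu, map_mul, map_mul, h3, mul_one]
  exact h2

end hensel

section ram

variable {Ω : Type u} [Field Ω] (V : ValuationSubring Ω)
  {P F : Type u} [Field P] [Field F] [Algebra P F] [Algebra P Ω] [Algebra F Ω] [IsScalarTower P F Ω]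

variable {V} in
theorem Unif.pos {w : P} (hw : Unif V P w) : 0 < V.valuation (algebraMap P Ω w) := by
  rw [zero_lt_iff, Valuation.ne_zero_iff, Ne, map_eq_zero]
  exact hw.1

variable {V} in
theorem Unif.anti {w : P} (hw : Unif V P w) :
    StrictAnti (fun n : ℤ => V.valuation (algebraMap P Ω w) ^ n) :=
  zpow_right_strictAnti₀ hw.pos hw.2.1

variable {V} in
theorem Unif.isDVR {w : P} (hw : Unif V P w) :
    IsDiscreteValuationRing (V.comap (algebraMap P Ω)) := by
  refine (RamDVR.isDVR_of_uniformizer (V.comap (algebraMap P Ω)) w hw.1 ?_ ?_).1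
  · rw [RamBasic.valuation_comap_lt_one_iff]
    exact hw.2.1
  · intro x hx
    obtain ⟨n, hn⟩ := hw.2.2 x hx
    refine ⟨n, ?_⟩
    rw [← map_zpow₀, RamBasic.valuation_comap_eq_iff, hn, map_zpow₀, map_zpow₀]

/-- (DISC) a finite extension of a discretely valued field is discretely valued -/
theorem exists_unif [FiniteDimensional P F] {p : P} (hp : Unif V P p) :
    ∃ (w : F) (e : ℕ), Unif V F w ∧ 0 < e ∧
      V.valuation (algebraMap F Ω w) ^ e = V.valuation (algebraMap P Ω p) := by
  have hD := hp.isDVR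
  let R := V.comap (algebraMap P Ω)
  let W := V.comap (algebraMap F Ω)
  have hdom : Dominates R ((algebraMap P F).comp (algebraMap R P)) W := by
    constructor
    · intro a
      show algebraMap F Ω (algebraMap P F a) ∈ V
      rw [← IsScalarTower.algebraMap_apply]
      exact a.2
    · intro a ha
      rw [RamBasic.valuation_comap_lt_one_iff]
      show V.valuation (algebraMap F Ω (algebraMap P F a)) < 1
      rw [← IsScalarTower.algebraMap_apply, ← RamBasic.valuation_comap_lt_one_iff]
      exact (R.valuation_lt_one_iff a).1 ha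
  obtain ⟨ρ, h0, h1, h2⟩ := RamDVR.exists_uniformizer hdom
  have hρ : Unif V F ρ := by
    refine ⟨h0, (RamBasic.valuation_comap_lt_one_iff _ _ _).1 h1, fun x hx => ?_⟩
    obtain ⟨n, hn⟩ := h2 x hx
    refine ⟨n, ?_⟩
    rw [← map_zpow₀, RamBasic.valuation_comap_eq_iff, map_zpow₀, map_zpow₀] at hn
    exact hn
  have hp0 : algebraMap P F p ≠ 0 := (map_ne_zero _).2 hp.1
  obtain ⟨k, hk⟩ := hρ.2.2 _ hp0
  rw [← IsScalarTower.algebraMap_apply] at hk
  have hk0 : 0 < k := by
    by_contra hcon
    rw [not_lt] at hcon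
    have h3 := hρ.anti.antitone hcon
    simp only [zpow_zero] at h3
    rw [← hk] at h3
    exact absurd hp.2.1 (not_lt.2 h3)
  obtain ⟨e, rfl⟩ := Int.eq_ofNat_of_zero_le hk0.le
  refine ⟨ρ, e, hρ, by exact_mod_cast hk0, ?_⟩
  rw [hk, zpow_natCast]

/-- (LI) `e * f ≤ n`: the `u i` have residues linearly independent over that of `P` (in the form `hu`) -/
theorem linearIndependent_unif {p : P} {w : F} (hw : Unif V F w) {e : ℕ}
    (he : V.valuation (algebraMap F Ω w) ^ e = V.valuation (algebraMap P Ω p)) {ι : Type*} [Fintype ι]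
    (u : ι → F) (hu : ∀ (a : ι → P) (i : ι), a i ≠ 0 →
      ∃ n : ℤ, V.valuation (algebraMap F Ω (∑ j, a j • u j)) = V.valuation (algebraMap P Ω p) ^ n) :
    LinearIndependent P (fun x : ι × Fin e => u x.1 * w ^ (x.2 : ℕ)) := by
  classical
  rw [Fintype.linearIndependent_iff]
  intro g hg
  by_contra hne
  push Not at hne
  obtain ⟨⟨i₀, j₀⟩, h0⟩ := hne
  set s : Fin e → F := fun j => ∑ i, g (i, j) • u i with hs
  have hsum : ∑ j, s j * w ^ (j : ℕ) = 0 := by
    rw [← hg, Fintype.sum_prod_type_right]
    refine Finset.sum_congr rfl fun j _ => ?_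
    rw [hs, Finset.sum_mul]
    exact Finset.sum_congr rfl fun i _ => by rw [smul_mul_assoc]
  set S : Finset (Fin e) := Finset.univ.filter fun j => ∃ i, g (i, j) ≠ 0 with hS
  have hval : ∀ j ∈ S, ∃ n : ℤ, V.valuation (algebraMap F Ω (s j)) = V.valuation (algebraMap P Ω p) ^ n := by
    intro j hj
    obtain ⟨i, hi⟩ := (Finset.mem_filter.1 hj).2
    exact hu (fun i => g (i, j)) i hi
  have hsum' : ∑ j ∈ S, algebraMap F Ω (s j * w ^ (j : ℕ)) = 0 := by
    rw [← map_sum]
    have : ∑ j ∈ S, s j * w ^ (j : ℕ) = ∑ j, s j * w ^ (j : ℕ) := by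
      rw [hS]
      refine Finset.sum_filter_of_ne fun j _ hj => ?_
      by_contra hcon
      push Not at hcon
      apply hj
      have : s j = 0 := Finset.sum_eq_zero fun i _ => by rw [hcon i, zero_smul]
      rw [this, zero_mul]
    rw [this, hsum, map_zero]
  have hw0 : V.valuation (algebraMap F Ω w) ≠ 0 := hw.pos.ne'
  have hterm : ∀ j ∈ S, ∃ n : ℤ, V.valuation (algebraMap F Ω (s j * w ^ (j : ℕ))) =
      V.valuation (algebraMap F Ω w) ^ ((e : ℤ) * n + (j : ℕ)) := by
    intro j hj
    obtain ⟨n, hn⟩ := hval j hj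
    refine ⟨n, ?_⟩
    rw [map_mul, map_mul, hn, ← he, map_pow, map_pow, zpow_add₀ hw0, zpow_mul, zpow_natCast, zpow_natCast]
  obtain ⟨j, hj, j', hj', hjj, hv⟩ := RamDVR.exists_ne_valuation_eq V.valuation S
    (fun j => algebraMap F Ω (s j * w ^ (j : ℕ))) ⟨j₀, Finset.mem_filter.2 ⟨Finset.mem_univ _, i₀, h0⟩⟩
    (fun j hj => by
      obtain ⟨n, hn⟩ := hterm j hj
      rw [hn]
      exact zpow_ne_zero _ hw0) hsum'
  obtain ⟨n, hn⟩ := hterm j hj
  obtain ⟨n', hn'⟩ := hterm j' hj'
  rw [hn, hn'] at hv
  have h1 := hw.anti.injective hv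
  apply hjj
  apply Fin.ext
  have h2 := j.2
  have h3 := j'.2
  have h4 : ((j : ℕ) : ℤ) % e = ((j' : ℕ) : ℤ) % e := by
    have h5 : ((e : ℤ) * n + (j : ℕ)) % e = ((e : ℤ) * n' + (j' : ℕ)) % e := by rw [h1]
    simpa [Int.add_emod] using h5
  rw [Int.emod_eq_of_lt (by positivity) (by exact_mod_cast h2),
    Int.emod_eq_of_lt (by positivity) (by exact_mod_cast h3)] at h4
  exact_mod_cast h4

/-- `e ≤ n` -/
theorem le_finrank_of_unif [FiniteDimensional P F] {p : P} (hp : Unif V P p) {w : F} (hw : Unif V F w) {e : ℕ}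
    (he : V.valuation (algebraMap F Ω w) ^ e = V.valuation (algebraMap P Ω p)) : e ≤ Module.finrank P F := by
  have h1 := linearIndependent_unif V hw he (ι := Unit) (fun _ => (1 : F)) (by
    intro a i hi
    obtain ⟨n, hn⟩ := hp.2.2 (a i) hi
    refine ⟨n, ?_⟩
    rw [← hn, Fintype.sum_unique]
    rw [Algebra.smul_def, mul_one, ← IsScalarTower.algebraMap_apply])
  have h2 := h1.fintype_card_le_finrank
  simpa using h2

/-- `n ≤ e` for finite separable extensions if the residue field of `P` is that of `Ω` -/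
theorem finrank_le_of_full [FiniteDimensional P F] [Algebra.IsSeparable P F]
    {A : Type u} [CommRing A] [Algebra A P] [Algebra A Ω] [IsScalarTower A P Ω]
    (hA : ∀ a : A, algebraMap A Ω a ∈ V) (hint : ∀ x ∈ V, IsIntegral A x)
    {p : P} (hp : Unif V P p) {w : F} (hw : Unif V F w) {e : ℕ}
    (he : V.valuation (algebraMap F Ω w) ^ e = V.valuation (algebraMap P Ω p)) (hfull : Full V P) :
    Module.finrank P F ≤ e := by
  classical
  have hD := hp.isDVR
  let R := V.comap (algebraMap P Ω)
  let _ : Algebra R F := ((algebraMap P F).comp (algebraMap R P)).toAlgebra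
  have : IsScalarTower R P F := IsScalarTower.of_algebraMap_eq fun _ => rfl
  let O := integralClosure R F
  have hmemO : ∀ x : F, x ∈ O ↔ algebraMap F Ω x ∈ V := by
    intro x
    constructor
    · intro hx
      have hx' : IsIntegral R x := hx
      let _ : Algebra R Ω := ((algebraMap P Ω).comp (algebraMap R P)).toAlgebra
      have : IsScalarTower R F Ω := IsScalarTower.of_algebraMap_eq fun r => by
        show algebraMap P Ω r = algebraMap F Ω (algebraMap P F r)
        rw [← IsScalarTower.algebraMap_apply]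
      refine K299.HensVal.mem_of_isIntegral (R := R) V (fun r => ?_) (hx'.map (IsScalarTower.toAlgHom R F Ω))
      exact r.2
    · intro hx
      have h1 := hint _ hx
      obtain ⟨f, hf, hfx⟩ := h1
      let φ : A →+* R := (algebraMap A P).codRestrict R.toSubring (fun a => by
        show algebraMap P Ω (algebraMap A P a) ∈ V
        rw [← IsScalarTower.algebraMap_apply]
        exact hA a)
      show IsIntegral R x
      refine ⟨f.map φ, hf.map _, ?_⟩
      apply (algebraMap F Ω).injective
      rw [Polynomial.eval₂_map, Polynomial.hom_eval₂, map_zero, ← hfx]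
      congr 1
      ext a
      show algebraMap F Ω (algebraMap P F (algebraMap A P a)) = algebraMap A Ω a
      rw [← IsScalarTower.algebraMap_apply P F Ω, ← IsScalarTower.algebraMap_apply]
  have hfin : Module.Finite R O := IsIntegralClosure.finite R P F O
  have hw1 : algebraMap F Ω w ∈ V := (V.valuation_le_one_iff _).1 hw.2.1.le
  let wO : O := ⟨w, (hmemO w).2 hw1⟩
  let pR : R := ⟨p, (V.valuation_le_one_iff _).1 hp.2.1.le⟩
  have hpR : pR ∈ maximalIdeal R := by
    rw [R.valuation_lt_one_iff, RamBasic.valuation_comap_lt_one_iff]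
    exact hp.2.1
  let N : Submodule R O := Submodule.span R (Set.range fun j : Fin e => wO ^ (j : ℕ))
  have key : ∀ (d : ℕ) (j : ℕ), j + d = e → ∀ x : O,
      V.valuation (algebraMap F Ω (x : F)) ≤ V.valuation (algebraMap F Ω w) ^ j →
      x ∈ N ⊔ (maximalIdeal R) • (⊤ : Submodule R O) := by
    intro d
    induction d with
    | zero =>
      intro j hj x hx
      rw [add_zero] at hj
      subst hj
      rw [he] at hx
      have hy : algebraMap F Ω ((x : F) / algebraMap P F p) ∈ V := by
        rw [← V.valuation_le_one_iff, map_div₀, map_div₀, ← IsScalarTower.algebraMap_apply,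
          div_le_one₀ hp.pos]
        exact hx
      have h1 : x = pR • (⟨_, (hmemO _).2 hy⟩ : O) := by
        apply Subtype.ext
        show (x : F) = algebraMap P F p * ((x : F) / algebraMap P F p)
        rw [mul_div_cancel₀]
        exact (map_ne_zero _).2 hp.1
      rw [h1]
      exact Submodule.mem_sup_right (Submodule.smul_mem_smul hpR trivial)
    | succ d ih =>
      intro j hj x hx
      have hw0 : w ^ j ≠ 0 := pow_ne_zero _ hw.1
      have hy : algebraMap F Ω ((x : F) / w ^ j) ∈ V := by
        rw [← V.valuation_le_one_iff, map_div₀, map_div₀, map_pow, map_pow, div_le_one₀ (pow_pos hw.pos _)]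
        exact hx
      obtain ⟨a, ha⟩ := hfull _ hy
      have haV : algebraMap P Ω a ∈ V := by
        have h1 := sub_mem hy ((V.valuation_le_one_iff _).1 ha.le)
        rwa [sub_sub_cancel] at h1
      let aR : R := ⟨a, haV⟩
      let z : O := x - aR • wO ^ j
      have hz : V.valuation (algebraMap F Ω (z : F)) ≤ V.valuation (algebraMap F Ω w) ^ (j + 1) := by
        have h1 : (z : F) = w ^ j * ((x : F) / w ^ j - algebraMap P F a) := by
          show (x : F) - algebraMap P F a * w ^ j = _
          field_simp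
        rw [h1, map_mul, map_mul, map_pow, map_pow, pow_succ]
        refine mul_le_mul' le_rfl ?_
        rw [map_sub, ← IsScalarTower.algebraMap_apply]
        -- value < 1 implies ≤ v w
        by_cases h0 : algebraMap F Ω ((x : F) / w ^ j) - algebraMap P Ω a = 0
        · rw [h0, map_zero]; exact zero_le
        · have h2 : (x : F) / w ^ j - algebraMap P F a ≠ 0 := by
            intro h3
            apply h0
            have h4 := congrArg (algebraMap F Ω) h3
            rw [map_sub, ← IsScalarTower.algebraMap_apply, map_zero] at h4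
            exact h4
          obtain ⟨n, hn⟩ := hw.2.2 _ h2
          rw [map_sub, ← IsScalarTower.algebraMap_apply] at hn
          rw [hn] at ha ⊢
          have hn0 : 0 < n := by
            by_contra hcon
            rw [not_lt] at hcon
            have h3 := hw.anti.antitone hcon
            simp only [zpow_zero] at h3
            exact absurd ha (not_lt.2 h3)
          calc V.valuation (algebraMap F Ω w) ^ n ≤ V.valuation (algebraMap F Ω w) ^ (1 : ℤ) :=
                hw.anti.antitone (by omega)
            _ = _ := zpow_one _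
      have hzmem := ih (j + 1) (by omega) z hz
      have hx' : x = z + aR • wO ^ j := by
        show x = x - aR • wO ^ j + aR • wO ^ j
        rw [sub_add_cancel]
      rw [hx']
      refine Submodule.add_mem _ hzmem (Submodule.mem_sup_left (N.smul_mem _ (Submodule.subset_span ?_)))
      exact ⟨⟨j, by omega⟩, rfl⟩
  have htop : (⊤ : Submodule R O) ≤ N := by
    refine Submodule.le_of_le_smul_of_le_jacobson_bot (I := maximalIdeal R) Module.Finite.fg_top
      (IsLocalRing.maximalIdeal_le_jacobson _) ?_
    intro x _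
    refine key e 0 (by omega) x ?_
    rw [pow_zero]
    exact (V.valuation_le_one_iff _).2 ((hmemO _).1 x.2)
  have hspan : (⊤ : Submodule P F) ≤ Submodule.span P (Set.range fun j : Fin e => w ^ (j : ℕ)) := by
    intro x _
    -- multiply by a power of p
    have hex : ∃ n : ℕ, algebraMap F Ω (algebraMap P F p ^ n * x) ∈ V := by
      rcases eq_or_ne x 0 with rfl | hx0
      · exact ⟨0, by simp⟩
      obtain ⟨k, hk⟩ := hw.2.2 x hx0
      have he0 : 0 < e := by
        rcases Nat.eq_zero_or_pos e with h | h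
        · rw [h, pow_zero] at he
          exact absurd hp.2.1 (by rw [← he]; exact lt_irrefl _)
        · exact h
      refine ⟨k.natAbs, ?_⟩
      rw [← V.valuation_le_one_iff, map_mul, map_mul, map_pow, map_pow, ← IsScalarTower.algebraMap_apply, ← he, hk,
        ← pow_mul, ← zpow_natCast, ← zpow_add₀ hw.pos.ne']
      have h1 : (0 : ℤ) ≤ ((e * k.natAbs : ℕ) : ℤ) + k := by
        have h2 : (1 : ℤ) * |k| ≤ e * |k| := mul_le_mul_of_nonneg_right (by exact_mod_cast he0) (abs_nonneg _)
        push_cast
        have := neg_abs_le k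
        linarith
      have h3 := hw.anti.antitone h1
      simpa using h3
    obtain ⟨n, hn⟩ := hex
    have hy := htop (show (⟨_, (hmemO _).2 hn⟩ : O) ∈ (⊤ : Submodule R O) from trivial)
    have hy' : algebraMap P F p ^ n * x ∈ Submodule.span P (Set.range fun j : Fin e => w ^ (j : ℕ)) := by
      have h1 : ∀ y ∈ N, ((y : O) : F) ∈ Submodule.span P (Set.range fun j : Fin e => w ^ (j : ℕ)) := by
        intro y hy
        refine Submodule.span_induction (p := fun (y : O) _ => (y : F) ∈
          Submodule.span P (Set.range fun j : Fin e => w ^ (j : ℕ))) ?_ ?_ ?_ ?_ hy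
        · rintro _ ⟨j, rfl⟩
          exact Submodule.subset_span ⟨j, rfl⟩
        · exact Submodule.zero_mem _
        · intro a b _ _ ha hb
          exact Submodule.add_mem _ ha hb
        · intro r a _ ha
          show algebraMap P F (r : P) * (a : F) ∈ _
          rw [← Algebra.smul_def]
          exact Submodule.smul_mem _ _ ha
      exact h1 _ hy
    have h2 : x = (p ^ n)⁻¹ • (algebraMap P F p ^ n * x) := by
      rw [Algebra.smul_def, map_inv₀, map_pow, inv_mul_cancel_left₀]
      exact pow_ne_zero _ ((map_ne_zero _).2 hp.1)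
    rw [h2]
    exact Submodule.smul_mem _ _ hy'
  have h3 : Module.finrank P F = (Set.range fun j : Fin e => w ^ (j : ℕ)).finrank P := by
    rw [Set.finrank, top_le_iff.1 hspan, finrank_top]
  rw [h3]
  exact (finrank_range_le_card _).trans (by simp)

/-- (EF) `n = e` for finite separable extensions if the residue field of `P` is that of `Ω` -/
theorem pow_finrank_eq [FiniteDimensional P F] [Algebra.IsSeparable P F]
    {A : Type u} [CommRing A] [Algebra A P] [Algebra A Ω] [IsScalarTower A P Ω]
    (hA : ∀ a : A, algebraMap A Ω a ∈ V) (hint : ∀ x ∈ V, IsIntegral A x)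
    {p : P} (hp : Unif V P p) {w : F} (hw : Unif V F w) (hfull : Full V P) :
    V.valuation (algebraMap F Ω w) ^ (Module.finrank P F) = V.valuation (algebraMap P Ω p) := by
  have hp0 : algebraMap P F p ≠ 0 := (map_ne_zero _).2 hp.1
  obtain ⟨k, hk⟩ := hw.2.2 _ hp0
  rw [← IsScalarTower.algebraMap_apply] at hk
  have hk0 : 0 < k := by
    by_contra hcon
    rw [not_lt] at hcon
    have h3 := hw.anti.antitone hcon
    simp only [zpow_zero] at h3
    rw [← hk] at h3
    exact absurd hp.2.1 (not_lt.2 h3)
  obtain ⟨e, rfl⟩ := Int.eq_ofNat_of_zero_le hk0.le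
  have he : V.valuation (algebraMap F Ω w) ^ e = V.valuation (algebraMap P Ω p) := by
    rw [hk, zpow_natCast]
  have h1 := le_finrank_of_unif V hp hw he
  have h2 := finrank_le_of_full V hA hint hp hw he hfull
  rw [le_antisymm h2 h1, he]

/-- (EF) in the form asked by helper287 -/
theorem exists_unif_of_full {P F : Type u} [Field P] [Field F] [Algebra P F]
    [FiniteDimensional P F] [Algebra.IsSeparable P F]
    {A : Type u} [CommRing A] [Algebra A P] [Algebra A F] [IsScalarTower A P F]
    (W : ValuationSubring F) (hA : ∀ a : A, algebraMap A F a ∈ W) (hint : ∀ x ∈ W, IsIntegral A x)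
    {p : P} (hp0 : p ≠ 0) (hp1 : W.valuation (algebraMap P F p) < 1)
    (hp : ∀ x : P, x ≠ 0 → ∃ n : ℤ, W.valuation (algebraMap P F x) = W.valuation (algebraMap P F p) ^ n)
    (hres : ∀ x ∈ W, ∃ a : P, W.valuation (x - algebraMap P F a) < 1) :
    ∃ w : F, w ≠ 0 ∧ W.valuation w < 1 ∧ (∀ x : F, x ≠ 0 → ∃ n : ℤ, W.valuation x = W.valuation w ^ n) ∧
      W.valuation w ^ (Module.finrank P F) = W.valuation (algebraMap P F p) := by
  have hP : Unif W P p := ⟨hp0, hp1, hp⟩
  obtain ⟨w, e, hw, -, -⟩ := exists_unif W (F := F) hP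
  exact ⟨w, hw.1, hw.2.1, hw.2.2, pow_finrank_eq W hA hint hP hw hres⟩

end ram

end Groth.Agent.Refuted.K845
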