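import Groth.Agent.Refuted.K845.Base
import Mathlib.FieldTheory.IntermediateField.Adjoin.Basic
import Mathlib.FieldTheory.Separable
import Mathlib.FieldTheory.PurelyInseparable.PerfectClosure
import Mathlib.FieldTheory.SeparableDegree
import Mathlib.FieldTheory.IsAlgClosed.Basic
import Mathlib.FieldTheory.PrimitiveElement

/-!
# An Artin-Schreier element which does not ramify lies below

`K845.YMem.mem_of_unramified`: if the composite of `M` with the purely inseparable `N₀` has full residue field and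
adjoining `y` does not change the value group then `y ∈ M`.
-/

set_option autoImplicit false
set_option linter.unusedSectionVars false
universe u

namespace Groth.Agent.Refuted.K845

open IsLocalRing EtRam Groth.Agent.Etalg IntermediateField

section artin

variable {K Ω : Type u} [Field K] [Field Ω] [Algebra K Ω] (p : ℕ) [Fact p.Prime] [CharP Ω p]

/-- the elements which have a `p`-power in `M` -/
theorem exists_pow_mem_of_mem_sup (M N₀ : IntermediateField K Ω)
    (hpi : ∀ x ∈ N₀, ∃ m : ℕ, x ^ p ^ m ∈ M) (x : Ω) (hx : x ∈ M ⊔ N₀) : ∃ m : ℕ, x ^ p ^ m ∈ M := by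
  let S : IntermediateField K Ω :=
    { carrier := {x | ∃ m : ℕ, x ^ p ^ m ∈ M}
      mul_mem' := by
        rintro a b ⟨m, hm⟩ ⟨n, hn⟩
        refine ⟨m + n, ?_⟩
        rw [mul_pow]
        refine M.mul_mem ?_ ?_
        · rw [pow_add, pow_mul]; exact pow_mem hm _
        · rw [add_comm, pow_add, pow_mul]; exact pow_mem hn _
      add_mem' := by
        rintro a b ⟨m, hm⟩ ⟨n, hn⟩
        refine ⟨m + n, ?_⟩
        rw [add_pow_char_pow]
        refine M.add_mem ?_ ?_
        · rw [pow_add, pow_mul]; exact pow_mem hm _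
        · rw [add_comm, pow_add, pow_mul]; exact pow_mem hn _
      algebraMap_mem' := fun r => ⟨0, by rw [pow_zero, pow_one]; exact M.algebraMap_mem r⟩
      inv_mem' := by
        rintro a ⟨m, hm⟩
        exact ⟨m, by rw [inv_pow]; exact M.inv_mem hm⟩ }
  have h1 : M ⊔ N₀ ≤ S := sup_le (fun a ha => ⟨0, by rw [pow_zero, pow_one]; exact ha⟩) (fun a ha => hpi a ha)
  exact h1 hx

/-- Artin-Schreier descent: `y ^ p - y ∈ M` and `y ^ (p ^ m) ∈ M` give `y ∈ M` -/
theorem mem_of_pow_mem (M : IntermediateField K Ω) (y : Ω) (hy : y ^ p - y ∈ M) (m : ℕ)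
    (hm : y ^ p ^ m ∈ M) : y ∈ M := by
  induction m with
  | zero => rwa [pow_zero, pow_one] at hm
  | succ m ih =>
    apply ih
    have h1 : (y ^ p - y) ^ p ^ m = y ^ p ^ (m + 1) - y ^ p ^ m := by
      rw [sub_pow_char_pow, ← pow_mul, pow_succ, mul_comm]
    have h2 : y ^ p ^ m = y ^ p ^ (m + 1) - (y ^ p - y) ^ p ^ m := by rw [h1, sub_sub_cancel]
    rw [h2]
    exact M.sub_mem hm (pow_mem hy _)

/-- an Artin-Schreier element is separable -/
theorem isSeparable_artin (P : IntermediateField K Ω) (y : Ω) (hy : y ^ p - y ∈ P) : IsSeparable P y := by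
  have hp : p.Prime := Fact.out
  have : CharP P p := (algebraMap P Ω).charP (algebraMap P Ω).injective p
  let a : P := ⟨y ^ p - y, hy⟩
  let f : Polynomial P := Polynomial.X ^ p - Polynomial.X - Polynomial.C a
  have hf : f.Separable := by
    rw [Polynomial.separable_def]
    have : Polynomial.derivative f = -1 := by
      simp only [f, Polynomial.derivative_sub, Polynomial.derivative_X_pow, Polynomial.derivative_X,
        Polynomial.derivative_C, CharP.cast_eq_zero, map_zero, zero_mul, zero_sub, sub_zero]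
    rw [this]
    exact isCoprime_one_right.neg_right
  have hroot : Polynomial.aeval y f = 0 := by
    simp only [f, map_sub, map_pow, Polynomial.aeval_X, Polynomial.aeval_C]
    show y ^ p - y - (y ^ p - y) = 0
    rw [sub_self]
  exact hf.of_dvd (minpoly.dvd P y hroot)

end artin

section main

variable {A K Ω : Type u} [CommRing A] [Field K] [Algebra A K] [Field Ω] [Algebra K Ω] [Algebra A Ω]
  [IsScalarTower A K Ω] (V : ValuationSubring Ω)

theorem full_of_le {P Q : IntermediateField K Ω} (h : P ≤ Q) (hP : Full V P) : Full V Q := by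
  intro x hx
  obtain ⟨a, ha⟩ := hP x hx
  exact ⟨⟨a, h a.2⟩, ha⟩

/-- `P` with full residue field and uniformizer `w`, `y` separable over `P`, `P(y)` has the same value group:
`y ∈ P`. -/
theorem mem_of_isSeparable (hA : ∀ a : A, algebraMap A Ω a ∈ V) (hint : ∀ x ∈ V, IsIntegral A x)
    (P : IntermediateField K Ω) (hfull : Full V P) (w : P) (hw : Unif V P w) (y : Ω) (hy : IsSeparable P y)
    (hram : ∀ x ∈ P ⊔ K⟮y⟯, x ≠ 0 → ∃ n : ℤ, V.valuation x = V.valuation (w : Ω) ^ n) : y ∈ P := by
  let F : IntermediateField P Ω := P⟮y⟯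
  have hfd : FiniteDimensional P F := adjoin.finiteDimensional hy.isIntegral
  have hsep : Algebra.IsSeparable P F := by
    rw [isSeparable_adjoin_simple_iff_isSeparable]
    exact hy
  have hF : ∀ x : F, (x : Ω) ∈ P ⊔ K⟮y⟯ := by
    intro x
    have h1 : F.restrictScalars K = P ⊔ K⟮y⟯ := by
      show (P⟮y⟯).restrictScalars K = _
      rw [restrictScalars_adjoin_eq_sup]
    rw [← h1]
    exact x.2
  let w' : F := algebraMap P F w
  have hw' : Unif V F w' := by
    refine ⟨(map_ne_zero _).2 hw.1, hw.2.1, fun x hx => ?_⟩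
    exact hram x (hF x) (by simpa using hx)
  let _ : Algebra A P := ((algebraMap K P).comp (algebraMap A K)).toAlgebra
  have : IsScalarTower A P Ω := IsScalarTower.of_algebraMap_eq fun a => by
    rw [IsScalarTower.algebraMap_apply A K Ω]
    rfl
  have h1 := pow_finrank_eq V (F := F) hA hint hw hw' hfull
  have h2 : V.valuation (algebraMap F Ω w') = V.valuation (algebraMap P Ω w) := rfl
  rw [h2] at h1
  have h3 : Module.finrank P F = 1 := by
    have h4 : V.valuation (algebraMap P Ω w) ^ ((Module.finrank P F : ℕ) : ℤ) =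
        V.valuation (algebraMap P Ω w) ^ (1 : ℤ) := by
      rw [zpow_natCast, zpow_one, h1]
    have h5 := hw.anti.injective h4
    exact_mod_cast h5
  have h4 : F = ⊥ := IntermediateField.finrank_eq_one_iff.1 h3
  have h5 : y ∈ F := mem_adjoin_simple_self P y
  rw [h4, mem_bot] at h5
  obtain ⟨z, hz⟩ := h5
  rw [← hz]
  exact z.2

variable (p : ℕ) [Fact p.Prime] [CharP Ω p]

/-- (Y) -/
theorem mem_of_unramified (hA : ∀ a : A, algebraMap A Ω a ∈ V) (hint : ∀ x ∈ V, IsIntegral A x)
    (M N₀ : IntermediateField K Ω) (hpi : ∀ x ∈ N₀, ∃ m : ℕ, x ^ p ^ m ∈ M) (hfull : Full V N₀)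
    (w : M) (hw : Unif V M w) (y : Ω) (hy : y ^ p - y ∈ M)
    (hram : ∀ x ∈ M ⊔ N₀ ⊔ K⟮y⟯, x ≠ 0 → ∃ n : ℤ, V.valuation x = V.valuation (w : Ω) ^ n) : y ∈ M := by
  have h1 : y ∈ M ⊔ N₀ := by
    refine mem_of_isSeparable V hA hint (M ⊔ N₀) (full_of_le V le_sup_right hfull)
      ⟨w, le_sup_left (a := M) w.2⟩ ⟨?_, hw.2.1, ?_⟩ y ?_ hram
    · intro h
      apply hw.1
      apply Subtype.ext
      have h2 : ((⟨w, le_sup_left (a := M) w.2⟩ : (M ⊔ N₀ : IntermediateField K Ω)) : Ω) =
        ((0 : (M ⊔ N₀ : IntermediateField K Ω)) : Ω) := congrArg Subtype.val h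
      exact h2
    · intro x hx
      exact hram x (le_sup_left (a := M ⊔ N₀) x.2) (by simpa using hx)
    · exact isSeparable_artin p _ y (le_sup_left (a := M) hy)
  obtain ⟨m, hm⟩ := exists_pow_mem_of_mem_sup p M N₀ hpi y h1
  exact mem_of_pow_mem p M y hy m hm

end main

end Groth.Agent.Refuted.K845
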